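import Groth.Agent.DescSS.ExtSS
import Groth.Agent.BigSiteLib.Along
import Groth.Agent.SiteBase.ExtCompare
import Groth.Agent.BigSiteLib.Shriek
import Mathlib.AlgebraicTopology.ExtraDegeneracy
import Mathlib.AlgebraicTopology.AlternatingFaceMapComplex
import Mathlib.Algebra.Homology.Functor
import Mathlib.Algebra.Category.Grp.Adjunctions
import Mathlib.Algebra.Homology.Embedding.CochainComplex
import Mathlib.CategoryTheory.Abelian.Projective.Extend
import Mathlib.Algebra.Homology.HomologicalComplexAbelian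
import Mathlib.CategoryTheory.Sites.LocallyBijective

/-!
# The Čech resolution on a big site
-/

set_option autoImplicit false
set_option backward.isDefEq.respectTransparency false
set_option backward.isDefEq.respectTransparency.types false

universe u

open CategoryTheory CategoryTheory.Limits AlgebraicGeometry Opposite Simplicial

noncomputable section

namespace Groth.Agent.DescBig

variable {X Y : Scheme.{u}} (f : X ⟶ Y)

/-- The structure map of a fibre power. -/
abbrev base (k : SimplexCategoryᵒᵖ) :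
    widePullback Y (fun _ : Fin (k.unop.len + 1) => X) (fun _ => f) ⟶ Y :=
  WidePullback.base (fun _ : Fin (k.unop.len + 1) => f)

/-- The Čech nerve over the base. -/
def nerve : SimplicialObject (Over Y) where
  obj k := Over.mk (base f k)
  map g := Over.homMk ((Arrow.mk f).cechNerve.map g) (WidePullback.lift_base _ _ _ _)
  map_id k := Over.OverMorphism.ext ((Arrow.mk f).cechNerve.map_id k)
  map_comp g h := Over.OverMorphism.ext ((Arrow.mk f).cechNerve.map_comp g h)

/-- The presheaf of objects which admit a lift. -/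
def liftable : (Over Y)ᵒᵖ ⥤ Type (u + 1) where
  obj T := ULift.{u + 1} (PLift (Nonempty (T.unop ⟶ Over.mk f)))
  map g := ↾fun x => ⟨⟨x.down.down.map fun l => g.unop ≫ l⟩⟩

lemma nonempty_lift_of {T : Over Y} {k : SimplexCategoryᵒᵖ} (y : T ⟶ (nerve f).obj k) : Nonempty (T ⟶ Over.mk f) :=
  ⟨Over.homMk (y.left ≫ WidePullback.π (fun _ : Fin (k.unop.len + 1) => f) 0) (by
    rw [Category.assoc]
    exact (congrArg (y.left ≫ ·) (WidePullback.π_arrow (fun _ : Fin (k.unop.len + 1) => f) 0)).trans (Over.w y))⟩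

/-- The augmented simplicial presheaf of sets. -/
def augSet : SimplicialObject.Augmented ((Over Y)ᵒᵖ ⥤ Type (u + 1)) where
  left := nerve f ⋙ uliftYoneda.{u + 1}
  right := liftable f
  hom :=
    { app := fun k =>
        { app := fun T => ↾fun y => ⟨⟨nonempty_lift_of f (ULift.down y)⟩⟩
          naturality := fun T T' g => by
            ext x
            exact ULift.ext _ _ (Subsingleton.elim (α := PLift _) _ _) }
      naturality := fun k k' g => by
        ext T x
        exact ULift.ext _ _ (Subsingleton.elim (α := PLift _) _ _) }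

variable {f}

/-- A map into a fibre power from its components. -/
def tuple {T : Over Y} {n : ℕ} (c : Fin (n + 1) → (T.left ⟶ X)) (hc : ∀ i, c i ≫ f = T.hom) :
    T ⟶ (nerve f).obj (op ⦋n⦌) :=
  Over.homMk (WidePullback.lift (arrows := fun _ : Fin (n + 1) => f) T.hom c hc) (WidePullback.lift_base _ _ _ _)

/-- A component. -/
def comp' {T : Over Y} {n : ℕ} (y : T ⟶ (nerve f).obj (op ⦋n⦌)) (i : Fin (n + 1)) : T.left ⟶ X :=
  y.left ≫ WidePullback.π (fun _ : Fin (n + 1) => f) i

lemma comp'_f {T : Over Y} {n : ℕ} (y : T ⟶ (nerve f).obj (op ⦋n⦌)) (i : Fin (n + 1)) :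
    comp' y i ≫ f = T.hom := by
  unfold comp'
  rw [Category.assoc]
  exact (congrArg (y.left ≫ ·) (WidePullback.π_arrow (fun _ : Fin (n + 1) => f) i)).trans (Over.w y)

lemma comp'_tuple {T : Over Y} {n : ℕ} (c : Fin (n + 1) → (T.left ⟶ X)) (hc : ∀ i, c i ≫ f = T.hom) (i : Fin (n + 1)) :
    comp' (tuple c hc) i = c i :=
  WidePullback.lift_π (fun _ : Fin (n + 1) => f) _ _ _ _

lemma comp'_map {T : Over Y} {n m : ℕ} (y : T ⟶ (nerve f).obj (op ⦋n⦌)) (g : ⦋m⦌ ⟶ ⦋n⦌) (i : Fin (m + 1)) :
    comp' (y ≫ (nerve f).map g.op) i = comp' y (g.toOrderHom i) := by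
  show (y.left ≫ (Arrow.mk f).cechNerve.map g.op) ≫ _ = _
  rw [Category.assoc]
  exact congrArg (y.left ≫ ·) (WidePullback.lift_π (fun _ : Fin (m + 1) => f) _ _ _ _)

lemma ext_comp' {T : Over Y} {n : ℕ} {y y' : T ⟶ (nerve f).obj (op ⦋n⦌)} (h : ∀ i, comp' y i = comp' y' i) :
    y = y' :=
  Over.OverMorphism.ext (WidePullback.hom_ext (fun _ : Fin (n + 1) => f) _ _ h ((Over.w y).trans (Over.w y').symm))

/-- The chosen lift. -/
def theLift {T : Over Y} (h : Nonempty (T ⟶ Over.mk f)) : T.left ⟶ X := h.some.left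

lemma theLift_f {T : Over Y} (h : Nonempty (T ⟶ Over.mk f)) : theLift h ≫ f = T.hom := Over.w h.some

variable (f)

/-- The sections at an object. -/
abbrev augAt (T : (Over Y)ᵒᵖ) : SimplicialObject.Augmented (Type (u + 1)) :=
  ((SimplicialObject.Augmented.whiskering _ _).obj ((evaluation _ (Type (u + 1))).obj T)).obj (augSet f)

/-- The extra degeneracy given by a choice of lifts. -/
def extraDeg (T : (Over Y)ᵒᵖ) : SimplicialObject.Augmented.ExtraDegeneracy (augAt f T) where
  s' := ↾fun h => ULift.up (tuple (n := 0) (fun _ => theLift h.down.down) (fun _ => theLift_f _))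
  s n := ↾fun y => ULift.up (tuple (n := n + 1)
    (Fin.cases (theLift (nonempty_lift_of f (ULift.down y))) (fun i => comp' (ULift.down y) i))
    (Fin.cases (theLift_f _) (fun i => comp'_f _ i)))
  s'_comp_ε := by
    ext h
    exact ULift.ext _ _ (Subsingleton.elim (α := PLift _) _ _)
  s₀_comp_δ₁ := by
    ext y
    refine ULift.ext _ _ (ext_comp' fun i => ?_)
    refine (comp'_map _ (SimplexCategory.δ 1) i).trans ?_
    refine (comp'_tuple _ _ _).trans (Eq.trans ?_ (comp'_tuple _ _ _).symm)
    fin_cases i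
    rfl
  s_comp_δ₀ n := by
    ext y
    refine ULift.ext _ _ (ext_comp' fun i => ?_)
    refine (comp'_map _ (SimplexCategory.δ 0) i).trans ?_
    refine (comp'_tuple _ _ _).trans ?_
    rfl
  s_comp_δ n j := by
    ext y
    refine ULift.ext _ _ (ext_comp' fun i => ?_)
    refine (comp'_map _ (SimplexCategory.δ j.succ) i).trans ?_
    refine (comp'_tuple _ _ _).trans (Eq.trans ?_ (comp'_tuple _ _ _).symm)
    induction i using Fin.cases with
    | zero =>
      have : (SimplexCategory.δ j.succ).toOrderHom 0 = 0 := by simp [SimplexCategory.δ]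
      rw [this]
      rfl
    | succ k =>
      have : (SimplexCategory.δ j.succ).toOrderHom k.succ = ((SimplexCategory.δ j).toOrderHom k).succ := by
        simp [SimplexCategory.δ]
      rw [this]
      simp only [Fin.cases_succ]
      exact (comp'_map _ (SimplexCategory.δ j) k).symm
  s_comp_σ n j := by
    ext y
    refine ULift.ext _ _ (ext_comp' fun i => ?_)
    refine (comp'_map _ (SimplexCategory.σ j.succ) i).trans ?_
    refine (comp'_tuple _ _ _).trans (Eq.trans ?_ (comp'_tuple _ _ _).symm)
    induction i using Fin.cases with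
    | zero =>
      have : (SimplexCategory.σ j.succ).toOrderHom 0 = 0 := by simp [SimplexCategory.σ]
      rw [this]
      rfl
    | succ k =>
      have : (SimplexCategory.σ j.succ).toOrderHom k.succ = ((SimplexCategory.σ j).toOrderHom k).succ := by
        simp [SimplexCategory.σ]
      rw [this]
      simp only [Fin.cases_succ]
      exact (comp'_map _ (SimplexCategory.σ j) k).symm

/-- Free abelian presheaves. -/
abbrev freePre : ((Over Y)ᵒᵖ ⥤ Type (u + 1)) ⥤ ((Over Y)ᵒᵖ ⥤ AddCommGrpCat.{u + 1}) :=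
  (Functor.whiskeringRight _ (Type (u + 1)) AddCommGrpCat.{u + 1}).obj AddCommGrpCat.free.{u + 1}

/-- The augmented free simplicial presheaf. -/
abbrev preAug : SimplicialObject.Augmented ((Over Y)ᵒᵖ ⥤ AddCommGrpCat.{u + 1}) :=
  ((SimplicialObject.Augmented.whiskering _ _).obj freePre).obj (augSet f)

/-- The complex of free presheaves. -/
abbrev preCx : ChainComplex ((Over Y)ᵒᵖ ⥤ AddCommGrpCat.{u + 1}) ℕ :=
  (AlgebraicTopology.alternatingFaceMapComplex _).obj (preAug f).left

/-- The augmentation. -/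
abbrev preπ : preCx f ⟶ (ChainComplex.single₀ _).obj (preAug f).right :=
  AlgebraicTopology.AlternatingFaceMapComplex.ε.app (preAug f)

instance quasiIso_preπ : QuasiIso (preπ f) := by
  rw [HomologicalComplex.quasiIso_iff_evaluation]
  intro Z
  let ev := (evaluation (Over Y)ᵒᵖ AddCommGrpCat.{u + 1}).obj Z
  let Q := ((SimplicialObject.Augmented.whiskering _ _).obj ev).obj (preAug f)
  let ed : SimplicialObject.Augmented.ExtraDegeneracy Q := (extraDeg f Z).map AddCommGrpCat.free.{u + 1}
  haveI : QuasiIso (AlgebraicTopology.AlternatingFaceMapComplex.ε.app Q) :=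
    inferInstanceAs (QuasiIso ed.homotopyEquiv.hom)
  refine (quasiIso_iff_of_arrow_mk_iso (AlgebraicTopology.AlternatingFaceMapComplex.ε.app Q) _
    (Arrow.isoMk (eqToIso (Functor.congr_obj (AlgebraicTopology.map_alternatingFaceMapComplex ev) (preAug f).left).symm)
      ((HomologicalComplex.singleMapHomologicalComplex ev (ComplexShape.down ℕ) 0).app (preAug f).right).symm
      ?_)).1 inferInstance
  refine HomologicalComplex.hom_ext _ _ fun n => ?_
  cases n with
  | zero =>
    simp only [Arrow.mk_hom, HomologicalComplex.comp_f, eqToIso.hom, HomologicalComplex.eqToHom_f, Iso.symm_hom,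
      Iso.app_inv, HomologicalComplex.singleMapHomologicalComplex_inv_app_self]
    dsimp [Q, ev]
    simp
    rfl
  | succ n =>
    exact (Functor.map_isZero ev ((HomologicalComplex.isZero_single_obj_X (ComplexShape.down ℕ) 0 _ (n + 1)
      (Nat.succ_ne_zero n)))).eq_of_tgt _ _

/-- The constant presheaf `ℤ`. -/
abbrev constPre : (Over Y)ᵒᵖ ⥤ AddCommGrpCat.{u + 1} :=
  (Functor.const _).obj (AddCommGrpCat.free.{u + 1}.obj PUnit.{u + 2})

/-- The map from the free presheaf on the liftable objects. -/
def toConst : (preAug f).right ⟶ constPre (Y := Y) where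
  app T := AddCommGrpCat.free.{u + 1}.map (↾fun _ => PUnit.unit)
  naturality T T' g := by
    show AddCommGrpCat.free.{u + 1}.map _ ≫ _ = AddCommGrpCat.free.{u + 1}.map _ ≫ 𝟙 _
    rw [Category.comp_id]
    exact (AddCommGrpCat.free.{u + 1}.map_comp _ _).symm

lemma bijective_toConst (T : (Over Y)ᵒᵖ) (h : Nonempty (T.unop ⟶ Over.mk f)) :
    Function.Bijective ((toConst f).app T) := by
  let i : (liftable f).obj T ≅ PUnit.{u + 2} :=
    { hom := ↾fun _ => PUnit.unit
      inv := ↾fun _ => ⟨⟨h⟩⟩
      hom_inv_id := by ext x; exact ULift.ext _ _ (Subsingleton.elim (α := PLift _) _ _)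
      inv_hom_id := by ext }
  haveI : IsIso ((toConst f).app T) := (AddCommGrpCat.free.{u + 1}.mapIso i).isIso_hom
  exact ConcreteCategory.bijective_of_isIso ((toConst f).app T)

variable (K : Precoverage Scheme.{u})

/-- The topology of the big site. -/
abbrev Jbig (Y : Scheme.{u}) := QuotSh.J K Y

/-- The objects with a lift cover. -/
def liftSieve (T : Over Y) : Sieve T where
  arrows W _ := Nonempty (W ⟶ Over.mk f)
  downward_closed {W W' g} h k := h.map fun l => k ≫ l

variable {K}

lemma liftSieve_mem (hcov : Sieve.generate (Presieve.singleton f) ∈ K.toGrothendieck Y) (T : Over Y) :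
    liftSieve f T ∈ Jbig K Y T := by
  rw [GrothendieckTopology.mem_over_iff]
  refine K.toGrothendieck.superset_covering ?_ (K.toGrothendieck.pullback_stable T.hom hcov)
  rintro W g ⟨Z, a, b, hb, hab⟩
  obtain ⟨⟩ := hb
  rw [Sieve.overEquiv_iff]
  exact ⟨Over.homMk a hab⟩

lemma W_toConst (hcov : Sieve.generate (Presieve.singleton f) ∈ K.toGrothendieck Y) :
    (Jbig K Y).W (toConst f) := by
  haveI : Presheaf.IsLocallyInjective (Jbig K Y) (toConst f) := ⟨fun {T} x y hxy => by
    refine (Jbig K Y).superset_covering ?_ (liftSieve_mem f hcov T.unop)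
    intro W g hg
    refine (bijective_toConst f (op W) hg).1 ?_
    rw [NatTrans.naturality_apply, NatTrans.naturality_apply, hxy]⟩
  haveI : Presheaf.IsLocallySurjective (Jbig K Y) (toConst f) := ⟨fun {T} s => by
    refine (Jbig K Y).superset_covering ?_ (liftSieve_mem f hcov T)
    intro W g hg
    exact (bijective_toConst f (op W) hg).2 _⟩
  exact (Jbig K Y).W_of_isLocallyBijective (toConst f)

variable (K)

/-- The free abelian sheaf on an object. -/
abbrev freeSh (T : Over Y) : BigSite.Ab K Y :=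
  (presheafToSheaf (Jbig K Y) AddCommGrpCat.{u + 1}).obj (freePre.obj (uliftYoneda.{u + 1}.obj T))

/-- The resolution in sheaves. -/
abbrev shCx : ChainComplex (BigSite.Ab K Y) ℕ :=
  ((presheafToSheaf (Jbig K Y) AddCommGrpCat.{u + 1}).mapHomologicalComplex _).obj (preCx f)

/-- The constant sheaf `ℤ`. -/
abbrev Zc (Y : Scheme.{u}) : BigSite.Ab K Y :=
  (presheafToSheaf (Jbig K Y) AddCommGrpCat.{u + 1}).obj (constPre (Y := Y))

/-- The augmentation in sheaves. -/
def shπ : shCx f K ⟶ (ChainComplex.single₀ _).obj (Zc K Y) :=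
  ((presheafToSheaf (Jbig K Y) AddCommGrpCat.{u + 1}).mapHomologicalComplex _).map (preπ f) ≫
    ((HomologicalComplex.singleMapHomologicalComplex (presheafToSheaf (Jbig K Y) AddCommGrpCat.{u + 1})
      (ComplexShape.down ℕ) 0).app _).hom ≫
    (ChainComplex.single₀ _).map ((presheafToSheaf (Jbig K Y) AddCommGrpCat.{u + 1}).map (toConst f))

variable {K}

lemma quasiIso_shπ (hcov : Sieve.generate (Presieve.singleton f) ∈ K.toGrothendieck Y) : QuasiIso (shπ f K) := by
  haveI : IsIso ((presheafToSheaf (Jbig K Y) AddCommGrpCat.{u + 1}).map (toConst f)) :=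
    ((Jbig K Y).W_iff (toConst f)).1 (W_toConst f hcov)
  dsimp only [shπ]
  infer_instance

variable (K)

/-- The resolution as a cochain complex. -/
abbrev P : CochainComplex (BigSite.Ab K Y) ℤ := (shCx f K).extend ComplexShape.embeddingDownNat

/-- The augmentation of the resolution. -/
def π : P f K ⟶ (CochainComplex.singleFunctor _ 0).obj (Zc K Y) :=
  (ComplexShape.embeddingDownNat.extendFunctor _).map (shπ f K) ≫
    (HomologicalComplex.extendSingleIso _ _ _ _ (by simp)).hom

variable {K}

lemma quasiIso_π (hcov : Sieve.generate (Presieve.singleton f) ∈ K.toGrothendieck Y) : QuasiIso (π f K) := by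
  haveI := quasiIso_shπ f hcov
  haveI : QuasiIso ((ComplexShape.embeddingDownNat.extendFunctor _).map (shπ f K)) :=
    (HomologicalComplex.quasiIso_extendMap_iff (shπ f K) ComplexShape.embeddingDownNat).2 inferInstance
  dsimp only [π]
  infer_instance

variable (K)

/-- The terms of the resolution. -/
def XIso (p : ℕ) : (P f K).X (-(p : ℤ)) ≅ freeSh K ((nerve f).obj (op ⦋p⦌)) :=
  HomologicalComplex.extendXIso _ _ (show ComplexShape.embeddingDownNat.f p = -(p : ℤ) from rfl)

/-- Sections are maps from the free sheaf. -/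
def freeEquiv (T : Over Y) (G : BigSite.Ab K Y) : (freeSh K T ⟶ G) ≃ G.obj.obj (op T) :=
  ((sheafificationAdjunction (Jbig K Y) AddCommGrpCat.{u + 1}).homEquiv _ _).trans
    (((AddCommGrpCat.adj.{u + 1}.whiskerRight (Over Y)ᵒᵖ).homEquiv _ _).trans uliftYonedaEquiv.{u + 1})

lemma freeEquiv_comp (T : Over Y) {G G' : BigSite.Ab K Y} (φ : freeSh K T ⟶ G) (g : G ⟶ G') :
    freeEquiv K T G' (φ ≫ g) = g.hom.app (op T) (freeEquiv K T G φ) := by
  simp only [freeEquiv, Equiv.trans_apply]
  rw [Adjunction.homEquiv_naturality_right, Adjunction.homEquiv_naturality_right]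
  rfl

/-- The object as image of the whole source. -/
def mapTopIso (T : Over Y) : (Over.map T.hom).obj (Over.mk (𝟙 T.left)) ≅ T :=
  Over.isoMk (Iso.refl _) (by simp)

/-- Sections are maps from the extension by zero of the constant sheaf. -/
def shriekEquiv (T : Over Y) (G : BigSite.Ab K Y) :
    ((BigSite.shriekAb K T.hom).obj ((constantSheaf (Jbig K T.left) AddCommGrpCat.{u + 1}).obj
      (AddCommGrpCat.of (ULift.{u + 1} ℤ))) ⟶ G) ≃ G.obj.obj (op T) :=
  ((BigSite.shriekAbAdj K T.hom).homEquiv _ G).trans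
    (((constantSheafAdj (Jbig K T.left) AddCommGrpCat.{u + 1} Over.mkIdTerminal).homEquiv _ _).trans
      ((AddCommGrpCat.uliftZMultiplesAddEquiv _).toEquiv.trans
        (G.obj.mapIso (mapTopIso T).symm.op).addCommGroupIsoToAddEquiv.toEquiv))

lemma shriekEquiv_comp (T : Over Y) {G G' : BigSite.Ab K Y}
    (φ : (BigSite.shriekAb K T.hom).obj ((constantSheaf (Jbig K T.left) AddCommGrpCat.{u + 1}).obj
      (AddCommGrpCat.of (ULift.{u + 1} ℤ))) ⟶ G) (g : G ⟶ G') :
    shriekEquiv K T G' (φ ≫ g) = g.hom.app (op T) (shriekEquiv K T G φ) := by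
  simp only [shriekEquiv, Equiv.trans_apply]
  rw [Adjunction.homEquiv_naturality_right, Adjunction.homEquiv_naturality_right]
  exact (NatTrans.naturality_apply g.hom (mapTopIso T).inv.op _).symm

/-- The extension by zero of the constant sheaf is the free sheaf. -/
def shriekIso (T : Over Y) : (BigSite.shriekAb K T.hom).obj ((constantSheaf (Jbig K T.left) AddCommGrpCat.{u + 1}).obj
      (AddCommGrpCat.of (ULift.{u + 1} ℤ))) ≅ freeSh K T where
  hom := (shriekEquiv K T _).symm (freeEquiv K T _ (𝟙 _))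
  inv := (freeEquiv K T _).symm (shriekEquiv K T _ (𝟙 _))
  hom_inv_id := by
    apply (shriekEquiv K T _).injective
    rw [shriekEquiv_comp, Equiv.apply_symm_apply, ← freeEquiv_comp, Category.id_comp, Equiv.apply_symm_apply]
  inv_hom_id := by
    apply (freeEquiv K T _).injective
    rw [freeEquiv_comp, Equiv.apply_symm_apply, ← shriekEquiv_comp, Category.id_comp, Equiv.apply_symm_apply]

/-- Extensions of the free sheaf are cohomology over the object. -/
theorem ext_freeSh (T : Over Y) (M : BigSite.Ab K Y) (q : ℕ) :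
    Nonempty (Abelian.Ext.{u + 1} (freeSh K T) M q ≃+ BigSite.HU K M q T) := by
  haveI := BigSiteLib.shriekAb_preservesFiniteLimits T.hom K
  haveI : (BigSite.shriekAb K T.hom).PreservesMonomorphisms := inferInstance
  exact SiteBase.nonempty_ext_addEquiv_of_adjunction (BigSite.shriekAbAdj K T.hom) (shriekIso K T) q M

/-- The constant sheaf in standard form. -/
def ZcIso (Y : Scheme.{u}) :
    Zc K Y ≅ (constantSheaf (Jbig K Y) AddCommGrpCat.{u + 1}).obj (AddCommGrpCat.of (ULift.{u + 1} ℤ)) :=
  (constantSheaf (Jbig K Y) AddCommGrpCat.{u + 1}).mapIso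
    (AddEquiv.toAddCommGrpIso (X := AddCommGrpCat.free.{u + 1}.obj PUnit.{u + 2}) (Y := AddCommGrpCat.of (ULift.{u + 1} ℤ))
      ((FreeAbelianGroup.uniqueEquiv PUnit.{u + 2}).trans AddEquiv.ulift.symm))

/-- The descent spectral sequence of a covering map on a big site. -/
theorem exists_spectralSequence (hcov : Sieve.generate (Presieve.singleton f) ∈ K.toGrothendieck Y)
    (F : EtCoh.Ab Y) (M : BigSite.Ab K Y)
    (hT : ∀ (T : Over Y) (n : ℕ), Nonempty (BigSite.HU K M n T ≃+ EtCoh.H T.left ((EtCoh.pull T.hom).obj F) n))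
    (hY : ∀ n : ℕ, Nonempty (BigSite.H K Y M n ≃+ EtCoh.H Y F n)) :
    ∃ (E : CohomologicalSpectralSequence AddCommGrpCat.{u + 1} 1)
      (a : SpSeq.Abutment E (fun n : ℤ =>
        if 0 ≤ n then AddCommGrpCat.of (EtCoh.H Y F n.toNat) else AddCommGrpCat.of PUnit.{u + 2})),
      (∀ n, a.IsFinite n) ∧ SpSeq.IsBounded E ∧
      ∀ p q : ℤ, Nonempty ((E.page 1 le_rfl).X (p, q) ≅
        (if 0 ≤ p ∧ 0 ≤ q then
          AddCommGrpCat.of (EtCoh.H (widePullback Y (fun _ : Fin (p.toNat + 1) => X) (fun _ => f))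
            ((EtCoh.pull (WidePullback.base (fun _ : Fin (p.toNat + 1) => f) :
              widePullback Y (fun _ : Fin (p.toNat + 1) => X) (fun _ => f) ⟶ Y)).obj F) q.toNat)
         else AddCommGrpCat.of PUnit.{u + 2})) := by
  haveI := quasiIso_π f hcov
  let cz : ∀ n, Abelian.Ext.{u + 1} (Zc K Y) M n ≃+ BigSite.H K Y M n := fun n =>
    (((Abelian.extFunctor n).mapIso (ZcIso K Y).op.symm).app M).addCommGroupIsoToAddEquiv
  refine DescSS.ExtSS.exists_spectralSequence (P f K) M (π f K) _ (fun n => ?_) (fun n hn => ?_)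
    _ (fun p q => ?_) (fun p q hpq => ?_)
  · obtain ⟨e⟩ := hY n
    refine ⟨((cz n).trans e).trans ?_⟩
    rw [if_pos (Int.natCast_nonneg n), Int.toNat_natCast]
  · rw [if_neg (by lia)]
    exact AddCommGrpCat.isZero_of_subsingleton _
  · obtain ⟨e⟩ := ext_freeSh K ((nerve f).obj (op ⦋p⦌)) M q
    obtain ⟨e'⟩ := hT ((nerve f).obj (op ⦋p⦌)) q
    refine ⟨((((Abelian.extFunctor q).mapIso (XIso f K p).op.symm).app M).addCommGroupIsoToAddEquiv.trans
      (e.trans e')).trans ?_⟩
    rw [if_pos ⟨Int.natCast_nonneg p, Int.natCast_nonneg q⟩, Int.toNat_natCast, Int.toNat_natCast]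
    exact AddEquiv.refl _
  · rw [if_neg (by lia)]
    exact AddCommGrpCat.isZero_of_subsingleton _

end Groth.Agent.DescBig
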