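import Groth.Agent.DescBig.Cech
import Groth.Agent.BigSiteLib.HUPull
import Groth.Agent.BigSiteLib.FppfDesc.Descent

/-!
# Descent spectral sequences for etale cohomology
-/

set_option autoImplicit false
set_option backward.isDefEq.respectTransparency.types false

universe u

open CategoryTheory CategoryTheory.Limits AlgebraicGeometry Opposite

noncomputable section

namespace Groth.Agent.DescBig

variable {X Y : Scheme.{u}} (f : X ⟶ Y)

/-- The spectral sequence of a map which covers for the etale topology. -/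
theorem exists_spectralSequence_etale
    (hcov : Sieve.generate (Presieve.singleton f) ∈ Scheme.etalePrecoverage.toGrothendieck Y) (F : EtCoh.Ab Y) :
    ∃ (E : CohomologicalSpectralSequence AddCommGrpCat.{u + 1} 1)
      (a : SpSeq.Abutment E (fun n : ℤ =>
        if 0 ≤ n then AddCommGrpCat.of (EtCoh.H Y F n.toNat) else AddCommGrpCat.of PUnit.{u + 2})),
      (∀ n, a.IsFinite n) ∧ SpSeq.IsBounded E ∧
      ∀ p q : ℤ, Nonempty ((E.page 1 le_rfl).X (p, q) ≅
        (if 0 ≤ p ∧ 0 ≤ q then
          AddCommGrpCat.of (EtCoh.H (widePullback Y (fun _ : Fin (p.toNat + 1) => X) (fun _ => f))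
            ((EtCoh.pull (WidePullback.base (fun _ : Fin (p.toNat + 1) => f) :
              widePullback Y (fun _ : Fin (p.toNat + 1) => X) (fun _ => f) ⟶ Y)).obj F) q.toNat)
         else AddCommGrpCat.of PUnit.{u + 2})) := by
  refine exists_spectralSequence f Scheme.etalePrecoverage hcov F
    ((BigSite.piEtPull Scheme.etalePrecoverage Y).obj F) (fun T n => BigSiteLib.HU_piPull_iso T.hom n F) fun n => ?_
  haveI := BigSiteLib.isIso_unit Y F
  obtain ⟨e⟩ := BigSiteLib.H_resEt_iso Y ((BigSite.piEtPull Scheme.etalePrecoverage Y).obj F) n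
  exact ⟨e.symm.trans ((EtCoh.HF Y n).mapIso
    (asIso ((BigSite.piEtAdj Scheme.etalePrecoverage Y).unit.app F)).symm).addCommGroupIsoToAddEquiv⟩

/-- Small and big fppf direct images. -/
def pushResIsoFppf {S T : Scheme.{u}} (g : T ⟶ S) :
    BigSite.pushBig Scheme.fppfPrecoverage g AddCommGrpCat.{u + 1} ⋙ BigSite.resEt Scheme.fppfPrecoverage S ≅
      BigSite.resEt Scheme.fppfPrecoverage T ⋙ EtCoh.push g :=
  haveI : (EtFppf.a S ⋙ Over.pullback g).IsContinuous S.smallEtaleTopology (QuotSh.J Scheme.fppfPrecoverage T) :=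
    Functor.isContinuous_comp _ _ _ (QuotSh.J Scheme.fppfPrecoverage S) _
  haveI : (EtCoh.bc g ⋙ EtFppf.a T).IsContinuous S.smallEtaleTopology (QuotSh.J Scheme.fppfPrecoverage T) :=
    Functor.isContinuous_comp _ _ _ T.smallEtaleTopology _
  Functor.sheafPushforwardContinuousComp (EtFppf.a S) (Over.pullback g) AddCommGrpCat.{u + 1}
      S.smallEtaleTopology (QuotSh.J Scheme.fppfPrecoverage S) (QuotSh.J Scheme.fppfPrecoverage T) ≪≫
    Functor.sheafPushforwardContinuousIso
      (F := EtFppf.a S ⋙ Over.pullback g) (F' := EtCoh.bc g ⋙ EtFppf.a T)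
      (MorphismProperty.Over.pullbackCompForgetIso (P := EtCoh.etaleMP.{u}) (Q := ⊤) g).symm AddCommGrpCat.{u + 1} _ _ ≪≫
    (Functor.sheafPushforwardContinuousComp (EtCoh.bc g) (EtFppf.a T) AddCommGrpCat.{u + 1}
      S.smallEtaleTopology T.smallEtaleTopology (QuotSh.J Scheme.fppfPrecoverage T)).symm

/-- Pullback to the big fppf site commutes with localization. -/
def piPullIsoFppf {S T : Scheme.{u}} (g : T ⟶ S) : EtCoh.pull g ⋙ BigSite.piEtPull Scheme.fppfPrecoverage T ≅
    BigSite.piEtPull Scheme.fppfPrecoverage S ⋙ BigSite.pullBig Scheme.fppfPrecoverage g AddCommGrpCat.{u + 1} :=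
  Adjunction.leftAdjointUniq
    (((EtCoh.pullPushAdj g).comp (BigSite.piEtAdj Scheme.fppfPrecoverage T)).ofNatIsoRight (pushResIsoFppf g).symm)
    ((BigSite.piEtAdj Scheme.fppfPrecoverage S).comp (BigSite.bigAdj Scheme.fppfPrecoverage g AddCommGrpCat.{u + 1}))

/-- The spectral sequence of a map which covers for the fppf topology. -/
theorem exists_spectralSequence_fppf
    (hcov : Sieve.generate (Presieve.singleton f) ∈ Scheme.fppfPrecoverage.toGrothendieck Y) (F : EtCoh.Ab Y) :
    ∃ (E : CohomologicalSpectralSequence AddCommGrpCat.{u + 1} 1)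
      (a : SpSeq.Abutment E (fun n : ℤ =>
        if 0 ≤ n then AddCommGrpCat.of (EtCoh.H Y F n.toNat) else AddCommGrpCat.of PUnit.{u + 2})),
      (∀ n, a.IsFinite n) ∧ SpSeq.IsBounded E ∧
      ∀ p q : ℤ, Nonempty ((E.page 1 le_rfl).X (p, q) ≅
        (if 0 ≤ p ∧ 0 ≤ q then
          AddCommGrpCat.of (EtCoh.H (widePullback Y (fun _ : Fin (p.toNat + 1) => X) (fun _ => f))
            ((EtCoh.pull (WidePullback.base (fun _ : Fin (p.toNat + 1) => f) :
              widePullback Y (fun _ : Fin (p.toNat + 1) => X) (fun _ => f) ⟶ Y)).obj F) q.toNat)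
         else AddCommGrpCat.of PUnit.{u + 2})) := by
  refine exists_spectralSequence f Scheme.fppfPrecoverage hcov F
    ((BigSite.piEtPull Scheme.fppfPrecoverage Y).obj F) (fun T n => ?_)
    (fun n => ⟨(BigSiteLib.FppfDesc.H_iso Y F n).some.symm⟩)
  obtain ⟨e⟩ := BigSiteLib.FppfDesc.H_iso T.left ((EtCoh.pull T.hom).obj F) n
  exact ⟨(((Sheaf.functorH.{u + 1, u + 1} (QuotSh.J Scheme.fppfPrecoverage T.left) n).mapIso
    ((piPullIsoFppf T.hom).app F).symm).addCommGroupIsoToAddEquiv).trans e.symm⟩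

end Groth.Agent.DescBig
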