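import Groth.Agent.DescBig.Etale
import Groth.Agent.BigSiteLib.FinitePushIso
import Groth.Agent.BigSiteLib.HofPushBij
import Groth.Agent.EtFound.IntegralBaseChange
import Groth.Agent.EtFound.Detect
import Groth.Agent.S3054

/-!
# Descent along integral surjections
-/

set_option autoImplicit false
set_option backward.isDefEq.respectTransparency.types false

universe u

open CategoryTheory CategoryTheory.Limits CategoryTheory.Abelian AlgebraicGeometry Opposite Simplicial

noncomputable section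

namespace Groth.Agent.DescBig

variable {X Y : Scheme.{u}} (f : X ⟶ Y)

local notation "K₀" => Scheme.etalePrecoverage

/-- The pullback to the big site. -/
abbrev piS (S : Scheme.{u}) : EtCoh.Ab S ⥤ BigSite.Ab K₀ S := BigSite.piEtPull K₀ S

/-- The sheaf of liftable objects. -/
abbrev Zl : BigSite.Ab K₀ Y :=
  (presheafToSheaf (Jbig K₀ Y) AddCommGrpCat.{u + 1}).obj (preAug f).right

/-- The comparison map. -/
abbrev cmap : Zl f ⟶ Zc K₀ Y :=
  (presheafToSheaf (Jbig K₀ Y) AddCommGrpCat.{u + 1}).map (toConst f)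

/-- Restriction to the source commutes with sheafification. -/
abbrev resSheafify :
    (Functor.whiskeringLeft _ _ AddCommGrpCat.{u + 1}).obj (Over.map f).op ⋙
        presheafToSheaf (Jbig K₀ X) AddCommGrpCat.{u + 1} ≅
      presheafToSheaf (Jbig K₀ Y) AddCommGrpCat.{u + 1} ⋙ BigSite.pullBig K₀ f AddCommGrpCat.{u + 1} :=
  (Over.map f).pushforwardContinuousSheafificationCompatibility AddCommGrpCat.{u + 1} (Jbig K₀ X) (Jbig K₀ Y)

lemma isIso_pullBig_cmap : IsIso ((BigSite.pullBig K₀ f AddCommGrpCat.{u + 1}).map (cmap f)) := by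
  haveI : IsIso (Functor.whiskerLeft (Over.map f).op (toConst f)) := by
    haveI : ∀ W, IsIso ((Functor.whiskerLeft (Over.map f).op (toConst f)).app W) := fun W =>
      (ConcreteCategory.isIso_iff_bijective _).2 (bijective_toConst f _
        ⟨Over.homMk W.unop.hom rfl⟩)
    exact NatIso.isIso_of_isIso_app _
  exact (NatIso.isIso_map_iff (resSheafify f) (toConst f)).1
    (inferInstanceAs (IsIso ((presheafToSheaf (Jbig K₀ X) AddCommGrpCat.{u + 1}).map
      (Functor.whiskerLeft (Over.map f).op (toConst f)))))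

/-- Restriction of the constant sheaf to the source. -/
def pullZc : (BigSite.pullBig K₀ f AddCommGrpCat.{u + 1}).obj (Zc K₀ Y) ≅ Zc K₀ X :=
  ((resSheafify f).app (constPre (Y := Y))).symm

/-- A map in the first variable. -/
def pre {A : Type*} [Category* A] [Abelian A] [HasExt.{u + 1} A] {P Q : A} (c : P ⟶ Q) (M : A) (n : ℕ) :
    Ext.{u + 1} Q M n →+ Ext.{u + 1} P M n :=
  (Ext.mk₀ c).precomp M (zero_add n)

/-- Transport of an `Ext` group along isomorphisms. -/
def extIso {A : Type (u + 2)} [Category.{u + 1} A] [Abelian A] [HasExt.{u + 1} A] {P P' M M' : A} (e : P ≅ P')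
    (e' : M ≅ M') (n : ℕ) : Ext.{u + 1} P M n ≃+ Ext.{u + 1} P' M' n :=
  (((extFunctor n).mapIso e.op.symm).app M ≪≫ ((extFunctor n).obj (op P')).mapIso e').addCommGroupIsoToAddEquiv

variable [IsIntegralHom f]

lemma isIso_theta_of_integral (F : EtCoh.Ab X) : IsIso (BigSiteLib.theta f F) := by
  refine BigSiteLib.isIso_of_resEtAlong _ fun {Y'} g => ?_
  have hsq := IsPullback.of_hasPullback f g
  haveI : IsIso (BigSiteLib.smallComp f F hsq) :=
    EtFound.isIso_baseChange_of_integral (A := AddCommGrpCat.{u + 1}) hsq F _ (BigSiteLib.smallComp_unit f F hsq)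
  have e : (BigSite.resEtAlong K₀ g).map (BigSiteLib.theta f F) =
      (BigSiteLib.resAlongPiPullIso g ((EtCoh.push f).obj F)).inv ≫ BigSiteLib.smallComp f F hsq ≫
        (EtCoh.push (pullback.snd f g)).map (BigSiteLib.resAlongPiPullIso (pullback.fst f g) F).hom ≫
        (BigSiteLib.resAlongPushIso f hsq).inv.app (BigSiteLib.piX F) := by
    simp only [BigSiteLib.smallComp, Category.assoc, Iso.inv_hom_id_assoc]
    rw [← Functor.map_comp_assoc, Iso.inv_hom_id, CategoryTheory.Functor.map_id, Category.id_comp, Iso.hom_inv_id_app]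
    exact (Category.comp_id _).symm
  rw [e]
  infer_instance

lemma isRightAcyclic_pi (F : EtCoh.Ab X) :
    TriCat.IsRightAcyclic (BigSite.pushBig K₀ f AddCommGrpCat.{u + 1}) ((piS X).obj F) := fun q hq =>
  BigSiteLib.isZero_of_resEtAlong _ fun {Y'} g => by
    have hsq := IsPullback.of_hasPullback f g
    haveI : IsIntegralHom (pullback.snd f g) := MorphismProperty.pullback_snd f g ‹IsIntegralHom f›
    exact (Groth.Agent.S3054.result (pullback.snd f g) _ q hq).of_iso
      ((BigSiteLib.resAlongRpushIso f hsq q).app _)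

/-- Extensions into a direct image. -/
lemma nonempty_ext_push (A : BigSite.Ab K₀ Y) (J : EtCoh.Ab X) (n : ℕ) :
    Nonempty (Ext.{u + 1} A ((BigSite.pushBig K₀ f AddCommGrpCat.{u + 1}).obj ((piS X).obj J)) n ≃
      Ext.{u + 1} ((BigSite.pullBig K₀ f AddCommGrpCat.{u + 1}).obj A) ((piS X).obj J) n) := by
  haveI : (BigSite.pushBig K₀ f AddCommGrpCat.{u + 1}).IsRightAdjoint :=
    (BigSite.bigAdj K₀ f AddCommGrpCat.{u + 1}).isRightAdjoint
  exact ⟨Equiv.ofBijective _ (BigSiteLib.HofBij.hof_bijective (BigSite.bigAdj K₀ f AddCommGrpCat.{u + 1})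
    (𝟙 ((BigSite.pullBig K₀ f AddCommGrpCat.{u + 1}).obj A)) inferInstance n _ (isRightAcyclic_pi f J))⟩

lemma subsingleton_ext_pullZc (J : EtCoh.Ab X) [Injective J] (n : ℕ) :
    Subsingleton (Ext.{u + 1} ((BigSite.pullBig K₀ f AddCommGrpCat.{u + 1}).obj (Zc K₀ Y)) ((piS X).obj J) (n + 1)) := by
  obtain ⟨e⟩ := BigSiteLib.H_resEt_iso X ((piS X).obj J) (n + 1)
  haveI := BigSiteLib.isIso_unit X J
  let e' : EtCoh.H X J (n + 1) ≃+ EtCoh.H X ((BigSite.resEt K₀ X).obj ((piS X).obj J)) (n + 1) :=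
    ((EtCoh.HF X (n + 1)).mapIso (asIso ((BigSite.piEtAdj K₀ X).unit.app J))).addCommGroupIsoToAddEquiv
  haveI : Subsingleton (EtCoh.H X J (n + 1)) := inferInstance
  exact ((extIso (pullZc f ≪≫ ZcIso K₀ X) (Iso.refl ((piS X).obj J)) (n + 1)).trans
    (e.symm.trans e'.symm)).toEquiv.subsingleton

/-- Direct images of injective sheaves. -/
lemma subsingleton_ext_effacing (J : EtCoh.Ab X) [Injective J] (n : ℕ) :
    Subsingleton (Ext.{u + 1} (Zc K₀ Y) ((piS Y).obj ((EtCoh.push f).obj J)) (n + 1)) ∧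
      Subsingleton (Ext.{u + 1} (Zl f) ((piS Y).obj ((EtCoh.push f).obj J)) (n + 1)) := by
  haveI := isIso_theta_of_integral f J
  haveI := isIso_pullBig_cmap f
  haveI := subsingleton_ext_pullZc f J n
  obtain ⟨e₁⟩ := nonempty_ext_push f (Zc K₀ Y) J (n + 1)
  obtain ⟨e₂⟩ := nonempty_ext_push f (Zl f) J (n + 1)
  exact ⟨((extIso (Iso.refl _) (asIso (BigSiteLib.theta f J)) (n + 1)).toEquiv.trans e₁).subsingleton,
    (((extIso (Iso.refl _) (asIso (BigSiteLib.theta f J)) (n + 1)).toEquiv.trans e₂).trans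
      (extIso (asIso ((BigSite.pullBig K₀ f AddCommGrpCat.{u + 1}).map (cmap f))) (Iso.refl _) (n + 1)).toEquiv).subsingleton⟩

/-- In degree zero the comparison is bijective on direct images. -/
lemma bijective_pre_effacing (J : EtCoh.Ab X) :
    Function.Bijective (fun φ : Zc K₀ Y ⟶ (piS Y).obj ((EtCoh.push f).obj J) => cmap f ≫ φ) := by
  haveI := isIso_theta_of_integral f J
  haveI := isIso_pullBig_cmap f
  let a := BigSite.bigAdj K₀ f AddCommGrpCat.{u + 1}
  let th := asIso (BigSiteLib.theta f J)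
  let eA : ∀ A : BigSite.Ab K₀ Y, (A ⟶ (piS Y).obj ((EtCoh.push f).obj J)) ≃
      ((BigSite.pullBig K₀ f AddCommGrpCat.{u + 1}).obj A ⟶ (piS X).obj J) := fun A =>
    ((Iso.refl A).homCongr th).trans (a.homEquiv A _).symm
  have key : ∀ φ, eA (Zl f) (cmap f ≫ φ) =
      (asIso ((BigSite.pullBig K₀ f AddCommGrpCat.{u + 1}).map (cmap f))).hom ≫ eA (Zc K₀ Y) φ := fun φ => by
    simp only [eA, Equiv.trans_apply, Iso.homCongr_apply, Iso.refl_inv, Category.id_comp, Category.assoc, asIso_hom]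
    exact Adjunction.homEquiv_naturality_left_symm a (cmap f) _
  have hb : Function.Bijective (fun φ : Zc K₀ Y ⟶ (piS Y).obj ((EtCoh.push f).obj J) =>
      (eA (Zl f)).symm (((asIso ((BigSite.pullBig K₀ f AddCommGrpCat.{u + 1}).map (cmap f))).homFromEquiv).symm
        (eA (Zc K₀ Y) φ))) :=
    (eA (Zl f)).symm.bijective.comp ((Equiv.bijective _).comp (eA (Zc K₀ Y)).bijective)
  convert hb using 1
  funext φ
  refine (eA (Zl f)).injective ?_
  rw [key, Equiv.apply_symm_apply]
  simp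

variable [Surjective f]

/-- An effacing sequence. -/
lemma exists_effacing (F : EtCoh.Ab Y) :
    ∃ (J : EtCoh.Ab X) (_ : Injective J) (S : ShortComplex (EtCoh.Ab Y)),
      S.ShortExact ∧ S.X₁ = F ∧ S.X₂ = (EtCoh.push f).obj J := by
  haveI := EtFound.pullback_faithful (A := AddCommGrpCat.{u + 1}) f
  haveI : Mono ((EtCoh.pullPushAdj f).unit.app F) := Adjunction.unit_mono_of_L_faithful _ _
  haveI : (EtCoh.push f).IsRightAdjoint := (EtCoh.pullPushAdj f).isRightAdjoint
  haveI : Mono ((EtCoh.push f).map (Injective.ι ((EtCoh.pull f).obj F))) := inferInstance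
  let i : F ⟶ (EtCoh.push f).obj (Injective.under ((EtCoh.pull f).obj F)) :=
    (EtCoh.pullPushAdj f).unit.app F ≫ (EtCoh.push f).map (Injective.ι ((EtCoh.pull f).obj F))
  haveI : Mono i := mono_comp _ _
  exact ⟨_, inferInstance, ShortComplex.mk i (cokernel.π i) (cokernel.condition i),
    { exact := ShortComplex.exact_of_g_is_cokernel _ (cokernelIsCokernel i) }, rfl, rfl⟩

lemma injective_pre_zero (F : EtCoh.Ab Y) :
    Function.Injective (fun φ : Zc K₀ Y ⟶ (piS Y).obj F => cmap f ≫ φ) := by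
  haveI := BigSiteLib.piEtPull_exact Y K₀
  obtain ⟨J, hJ, S, hS, rfl, hS₂⟩ := exists_effacing f F
  haveI := hS.mono_f
  haveI : Mono ((piS Y).map S.f) := inferInstance
  intro φ ψ h
  have h' : cmap f ≫ φ ≫ (piS Y).map S.f = cmap f ≫ ψ ≫ (piS Y).map S.f := by
    simpa using congrArg (· ≫ (piS Y).map S.f) h
  have hb := bijective_pre_effacing f J
  rw [← hS₂] at hb
  exact (cancel_mono ((piS Y).map S.f)).1 (hb.1 h')

/-- The comparison is bijective on all extensions. -/
theorem bijective_pre (F : EtCoh.Ab Y) (n : ℕ) : Function.Bijective (pre (cmap f) ((piS Y).obj F) n) := by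
  haveI := BigSiteLib.piEtPull_exact Y K₀
  haveI : (piS Y).IsLeftAdjoint := (BigSite.piEtAdj K₀ Y).isLeftAdjoint
  haveI : (piS Y).Additive := (BigSite.piEtAdj K₀ Y).left_adjoint_additive
  induction n generalizing F with
  | zero =>
    have key : ∀ (G : EtCoh.Ab Y) (φ : Zc K₀ Y ⟶ (piS Y).obj G),
        pre (cmap f) ((piS Y).obj G) 0 (Ext.mk₀ φ) = Ext.mk₀ (cmap f ≫ φ) := fun G φ => Ext.mk₀_comp_mk₀ _ _
    obtain ⟨J, hJ, S, hS, rfl, hS₂⟩ := exists_effacing f F
    have hb := bijective_pre_effacing f J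
    rw [← hS₂] at hb
    have hS' := hS.map_of_exact (piS Y)
    refine ⟨fun x y hxy => ?_, fun y => ?_⟩
    · obtain ⟨φ, rfl⟩ := (Ext.mk₀_bijective _ _).2 x
      obtain ⟨ψ, rfl⟩ := (Ext.mk₀_bijective _ _).2 y
      rw [key, key] at hxy
      exact congrArg Ext.mk₀ (injective_pre_zero f S.X₁ ((Ext.mk₀_bijective _ _).1 hxy))
    · obtain ⟨ψ, rfl⟩ := (Ext.mk₀_bijective _ _).2 y
      obtain ⟨φ, hφ⟩ := hb.2 (ψ ≫ (piS Y).map S.f)
      have h0 : φ ≫ (piS Y).map S.g = 0 := by
        refine injective_pre_zero f S.X₃ ?_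
        dsimp only at hφ ⊢
        rw [← Category.assoc, hφ, Category.assoc, ← Functor.map_comp, S.zero, Functor.map_zero,
          comp_zero, comp_zero]
      haveI : Mono (S.map (piS Y)).f := hS'.mono_f
      refine ⟨Ext.mk₀ (hS'.exact.lift φ h0), (key _ _).trans (congrArg Ext.mk₀ ?_)⟩
      refine (cancel_mono (S.map (piS Y)).f).1 ?_
      exact ((Category.assoc _ _ _).trans (congrArg (cmap f ≫ ·) (hS'.exact.lift_f φ h0))).trans hφ
  | succ n ih =>
    obtain ⟨J, hJ, S, hS, rfl, hS₂⟩ := exists_effacing f F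
    have hS' := hS.map_of_exact (piS Y)
    have hvan := subsingleton_ext_effacing f J n
    rw [← hS₂] at hvan
    have key : ∀ x : Ext.{u + 1} (Zc K₀ Y) ((piS Y).obj S.X₃) n,
        pre (cmap f) ((piS Y).obj S.X₁) (n + 1) (x.comp hS'.extClass rfl) =
          (pre (cmap f) ((piS Y).obj S.X₃) n x).comp hS'.extClass rfl := fun x =>
      (Ext.comp_assoc (Ext.mk₀ (cmap f)) x hS'.extClass (zero_add n) rfl (by omega)).symm
    refine ⟨(injective_iff_map_eq_zero _).2 fun x hx => ?_, fun y => ?_⟩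
    · obtain ⟨q, rfl⟩ := Ext.covariant_sequence_exact₁ _ hS' x (hvan.1.elim _ _) (n₀ := n) rfl
      have hx : (pre (cmap f) ((piS Y).obj S.X₃) n q).comp hS'.extClass rfl = 0 := (key q).symm.trans hx
      obtain ⟨r, hr⟩ := Ext.covariant_sequence_exact₃ _ hS' (pre (cmap f) ((piS Y).obj S.X₃) n q)
        (n₁ := n + 1) rfl hx
      obtain ⟨r', hr'⟩ := (ih S.X₂).2 r
      have hq : q = r'.comp (Ext.mk₀ (S.map (piS Y)).g) (add_zero n) := by
        refine (ih S.X₃).1 (hr.symm.trans ?_)
        rw [← hr']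
        exact Ext.comp_assoc_of_third_deg_zero (Ext.mk₀ (cmap f)) r' (Ext.mk₀ (S.map (piS Y)).g) (zero_add n)
      rw [hq, Ext.comp_assoc_of_second_deg_zero]
      exact (congrArg (fun t => r'.comp t rfl) hS'.comp_extClass).trans (Ext.comp_zero _ _ _ _ _)
    · obtain ⟨q, hq⟩ := Ext.covariant_sequence_exact₁ _ hS' y (hvan.2.elim _ _) (n₀ := n) rfl
      obtain ⟨q', hq'⟩ := (ih S.X₃).2 q
      exact ⟨q'.comp hS'.extClass rfl, ((key q').trans (congrArg (fun t => Ext.comp t hS'.extClass rfl) hq')).trans hq⟩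

/-- The augmentation onto the sheaf of liftable objects. -/
def shπl : shCx f K₀ ⟶ (ChainComplex.single₀ _).obj (Zl f) :=
  ((presheafToSheaf (Jbig K₀ Y) AddCommGrpCat.{u + 1}).mapHomologicalComplex _).map (preπ f) ≫
    ((HomologicalComplex.singleMapHomologicalComplex (presheafToSheaf (Jbig K₀ Y) AddCommGrpCat.{u + 1})
      (ComplexShape.down ℕ) 0).app _).hom

/-- The augmentation of the cochain complex. -/
def πl : P f K₀ ⟶ (CochainComplex.singleFunctor _ 0).obj (Zl f) :=
  (ComplexShape.embeddingDownNat.extendFunctor _).map (shπl f) ≫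
    (HomologicalComplex.extendSingleIso _ _ _ _ (by simp)).hom

omit [IsIntegralHom f] [Surjective f] in
set_option backward.isDefEq.respectTransparency false in
lemma quasiIso_πl : QuasiIso (πl f) := by
  haveI : QuasiIso (shπl f) := by
    dsimp only [shπl]
    infer_instance
  haveI : QuasiIso ((ComplexShape.embeddingDownNat.extendFunctor _).map (shπl f)) :=
    (HomologicalComplex.quasiIso_extendMap_iff (shπl f) ComplexShape.embeddingDownNat).2 inferInstance
  dsimp only [πl]
  infer_instance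

omit [IsIntegralHom f] [Surjective f] in
/-- The spectral sequence of a map along which extensions descend. -/
theorem exists_spectralSequence_of_bijective_pre (F : EtCoh.Ab Y)
    (hf : ∀ n : ℕ, Function.Bijective (pre (cmap f) ((piS Y).obj F) n)) :
    ∃ (E : CohomologicalSpectralSequence AddCommGrpCat.{u + 1} 1)
      (a : SpSeq.Abutment E (fun n : ℤ =>
        if 0 ≤ n then AddCommGrpCat.of (EtCoh.H Y F n.toNat) else AddCommGrpCat.of PUnit.{u + 2})),
      (∀ n, a.IsFinite n) ∧ SpSeq.IsBounded E ∧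
      ∀ p q : ℤ, Nonempty ((E.page 1 le_rfl).X (p, q) ≅
        (if 0 ≤ p ∧ 0 ≤ q then
          AddCommGrpCat.of (EtCoh.H (widePullback Y (fun _ : Fin (p.toNat + 1) => X) (fun _ => f))
            ((EtCoh.pull (WidePullback.base (fun _ : Fin (p.toNat + 1) => f) :
              widePullback Y (fun _ : Fin (p.toNat + 1) => X) (fun _ => f) ⟶ Y)).obj F) q.toNat)
         else AddCommGrpCat.of PUnit.{u + 2})) := by
  haveI := quasiIso_πl f
  let M := (piS Y).obj F
  haveI := BigSiteLib.isIso_unit Y F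
  refine DescSS.ExtSS.exists_spectralSequence (P f K₀) M (πl f) _ (fun n => ?_) (fun n hn => ?_)
    _ (fun p q => ?_) (fun p q hpq => ?_)
  · obtain ⟨e⟩ := BigSiteLib.H_resEt_iso Y M n
    let e' : EtCoh.H Y F n ≃+ EtCoh.H Y ((BigSite.resEt K₀ Y).obj M) n :=
      ((EtCoh.HF Y n).mapIso (asIso ((BigSite.piEtAdj K₀ Y).unit.app F))).addCommGroupIsoToAddEquiv
    refine ⟨((AddEquiv.ofBijective _ (hf n)).symm.trans
      ((extIso (ZcIso K₀ Y) (Iso.refl M) n).trans (e.symm.trans e'.symm))).trans ?_⟩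
    rw [if_pos (Int.natCast_nonneg n), Int.toNat_natCast]
  · rw [if_neg (by lia)]
    exact AddCommGrpCat.isZero_of_subsingleton _
  · obtain ⟨e⟩ := ext_freeSh K₀ ((nerve f).obj (op ⦋p⦌)) M q
    obtain ⟨e'⟩ := BigSiteLib.HU_piPull_iso ((nerve f).obj (op ⦋p⦌)).hom q F
    refine ⟨((extIso (XIso f K₀ p) (Iso.refl M) q).trans (e.trans e')).trans ?_⟩
    rw [if_pos ⟨Int.natCast_nonneg p, Int.natCast_nonneg q⟩, Int.toNat_natCast, Int.toNat_natCast]
    exact AddEquiv.refl _
  · rw [if_neg (by lia)]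
    exact AddCommGrpCat.isZero_of_subsingleton _

/-- The spectral sequence of an integral surjection. -/
theorem exists_spectralSequence_integral (F : EtCoh.Ab Y) :
    ∃ (E : CohomologicalSpectralSequence AddCommGrpCat.{u + 1} 1)
      (a : SpSeq.Abutment E (fun n : ℤ =>
        if 0 ≤ n then AddCommGrpCat.of (EtCoh.H Y F n.toNat) else AddCommGrpCat.of PUnit.{u + 2})),
      (∀ n, a.IsFinite n) ∧ SpSeq.IsBounded E ∧
      ∀ p q : ℤ, Nonempty ((E.page 1 le_rfl).X (p, q) ≅
        (if 0 ≤ p ∧ 0 ≤ q then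
          AddCommGrpCat.of (EtCoh.H (widePullback Y (fun _ : Fin (p.toNat + 1) => X) (fun _ => f))
            ((EtCoh.pull (WidePullback.base (fun _ : Fin (p.toNat + 1) => f) :
              widePullback Y (fun _ : Fin (p.toNat + 1) => X) (fun _ => f) ⟶ Y)).obj F) q.toNat)
         else AddCommGrpCat.of PUnit.{u + 2})) := by
  exact exists_spectralSequence_of_bijective_pre f F fun n => bijective_pre f F n

end Groth.Agent.DescBig
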