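import Groth.Agent.DescBig.Integral

/-!
# Descent for a map which is refined by an integral surjection followed by an etale cover
-/

set_option autoImplicit false
set_option linter.style.haveILetI false
set_option backward.isDefEq.respectTransparency false
set_option backward.isDefEq.respectTransparency.types false

universe u

open CategoryTheory CategoryTheory.Limits CategoryTheory.Abelian AlgebraicGeometry Opposite Simplicial

namespace Groth.Agent.DescBig

variable {Y : Scheme.{u}}

local notation "K₀" => Scheme.etalePrecoverage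

/-- Sheaves killed by a map. -/
abbrev Killed {W : Scheme.{u}} (g : W ⟶ Y) (A : BigSite.Ab K₀ Y) : Prop :=
  IsZero ((BigSite.pullBig K₀ g AddCommGrpCat.{u + 1}).obj A)

/-- A sheaf killed by an etale cover is zero. -/
theorem isZero_of_killed_cover {W : Scheme.{u}} (e : W ⟶ Y)
    (hcov : Sieve.generate (Presieve.singleton e) ∈ (K₀ : Precoverage Scheme.{u}).toGrothendieck Y)
    (A : BigSite.Ab K₀ Y) (h : Killed e A) : IsZero A := by
  rw [IsZero.iff_id_eq_zero]
  ext T x
  have h' : AddCommGrpCat.ofHom ((zmultiplesHom (A.obj.obj T) x).comp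
      (AddEquiv.ulift : ULift.{u + 1} ℤ ≃+ ℤ).toAddMonoidHom) = 0 := by
    refine Presheaf.IsSheaf.hom_ext (A := AddCommGrpCat.{u + 1}) A.property
      ⟨liftSieve e T.unop, liftSieve_mem e hcov T.unop⟩ _ _ ?_
    rintro ⟨T', g, ⟨l⟩⟩
    have hz : IsZero (A.obj.obj (op T')) := by
      have h0 : IsZero (((BigSite.pullBig K₀ e AddCommGrpCat.{u + 1}).obj A).obj.obj (op (Over.mk l.left))) :=
        ((sheafToPresheaf _ _).map_isZero h).obj _
      refine h0.of_iso (A.obj.mapIso (Iso.op ?_))
      exact Over.isoMk (Iso.refl _) ((Category.id_comp _).trans (Over.w l).symm)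
    exact hz.eq_of_tgt _ _
  have := ConcreteCategory.congr_hom h' (ULift.up 1)
  simpa [AddEquiv.ulift] using this

/-- Maps out of a sheaf killed by an integral surjection into pullbacks from the small site vanish. -/
theorem subsingleton_ext_of_killed {X : Scheme.{u}} (ν : X ⟶ Y) [IsIntegralHom ν] [Surjective ν]
    (A : BigSite.Ab K₀ Y) (hA : Killed ν A) (F : EtCoh.Ab Y) (n : ℕ) :
    Subsingleton (Ext.{u + 1} A ((piS Y).obj F) n) := by
  haveI := BigSiteLib.piEtPull_exact Y K₀
  haveI : (piS Y).IsLeftAdjoint := (BigSite.piEtAdj K₀ Y).isLeftAdjoint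
  haveI : (piS Y).Additive := (BigSite.piEtAdj K₀ Y).left_adjoint_additive
  have hpush : ∀ (J : EtCoh.Ab X) (m : ℕ),
      Subsingleton (Ext.{u + 1} A ((piS Y).obj ((EtCoh.push ν).obj J)) m) := fun J m => by
    haveI := isIso_theta_of_integral ν J
    obtain ⟨e⟩ := nonempty_ext_push ν A J m
    haveI : Subsingleton (Ext.{u + 1} ((BigSite.pullBig K₀ ν AddCommGrpCat.{u + 1}).obj A) ((piS X).obj J) m) := by
      refine ⟨fun x y => ?_⟩
      rw [← Ext.mk₀_id_comp x, ← Ext.mk₀_id_comp y, hA.eq_of_src (𝟙 _) 0, Ext.mk₀_zero, Ext.zero_comp, Ext.zero_comp]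
    exact ((extIso (Iso.refl A) (asIso (BigSiteLib.theta ν J)) m).toEquiv.trans e).subsingleton
  induction n generalizing F with
  | zero =>
    obtain ⟨J, hJ, S, hS, rfl, hS₂⟩ := exists_effacing ν F
    haveI : Mono ((piS Y).map S.f) := (hS.map_of_exact (piS Y)).mono_f
    have h2 := hpush J 0
    rw [← hS₂] at h2
    refine ⟨fun x y => ?_⟩
    obtain ⟨φ, rfl⟩ := (Ext.mk₀_bijective _ _).2 x
    obtain ⟨ψ, rfl⟩ := (Ext.mk₀_bijective _ _).2 y
    refine congrArg Ext.mk₀ ((cancel_mono ((piS Y).map S.f)).1 ?_)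
    exact (Ext.mk₀_bijective _ _).1 (h2.elim _ _)
  | succ n ih =>
    obtain ⟨J, hJ, S, hS, rfl, hS₂⟩ := exists_effacing ν F
    have hS' := hS.map_of_exact (piS Y)
    have h2 := hpush J (n + 1)
    rw [← hS₂] at h2
    refine ⟨fun x y => sub_eq_zero.1 ?_⟩
    obtain ⟨q, hq⟩ := Ext.covariant_sequence_exact₁ _ hS' (x - y) (h2.elim _ _) (n₀ := n) rfl
    rw [← hq, (ih S.X₃).elim q 0, Ext.zero_comp]

/-- A map whose kernel and cokernel have no extensions induces bijections. -/
theorem bijective_pre_of_subsingleton {A : Type*} [Category* A] [Abelian A] [HasExt.{u + 1} A] {P Q : A} (c : P ⟶ Q) (M : A)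
    (hk : ∀ n, Subsingleton (Ext.{u + 1} (kernel (Abelian.factorThruImage c)) M n))
    (hc : ∀ n, Subsingleton (Ext.{u + 1} (cokernel c) M n)) (n : ℕ) :
    Function.Bijective (pre c M n) := by
  let S₁ := ShortComplex.mk (kernel.ι (Abelian.factorThruImage c)) (Abelian.factorThruImage c) (kernel.condition _)
  let S₂ := ShortComplex.mk (Abelian.image.ι c) (cokernel.π c) (kernel.condition _)
  have hS₁ : S₁.ShortExact := { exact := ShortComplex.exact_of_f_is_kernel _ (kernelIsKernel _) }
  have hS₂ : S₂.ShortExact := { exact := ShortComplex.exact_of_f_is_kernel _ (kernelIsKernel _) }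
  have h₁ : Function.Bijective (pre S₁.g M n) := by
    refine ⟨(injective_iff_map_eq_zero _).2 fun x hx => ?_, fun y => Ext.contravariant_sequence_exact₂ hS₁ M y ((hk n).elim _ _)⟩
    cases n with
    | zero =>
      obtain ⟨φ, rfl⟩ := (Ext.mk₀_bijective _ _).2 x
      haveI := hS₁.epi_g
      have h0 : S₁.g ≫ φ = 0 := (Ext.mk₀_bijective _ _).1 (((Ext.mk₀_comp_mk₀ S₁.g φ).symm.trans hx).trans (Ext.mk₀_zero _ _).symm)
      rw [(cancel_epi S₁.g).1 (h0.trans comp_zero.symm), Ext.mk₀_zero]
    | succ m =>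
      obtain ⟨z, rfl⟩ := Ext.contravariant_sequence_exact₃ hS₁ M x hx (n₀ := m) (by omega)
      rw [(hk m).elim z 0, Ext.comp_zero]
  have h₂ : Function.Bijective (pre S₂.f M n) := by
    refine ⟨(injective_iff_map_eq_zero _).2 fun x hx => ?_, fun y =>
      Ext.contravariant_sequence_exact₁ hS₂ M y (n₁ := n + 1) (by omega) ((hc (n + 1)).elim _ _)⟩
    obtain ⟨z, rfl⟩ := Ext.contravariant_sequence_exact₂ hS₂ M x hx
    rw [(hc n).elim z 0, Ext.comp_zero]
  have hfac : ∀ x, pre c M n x = pre S₁.g M n (pre S₂.f M n x) := fun x => by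
    show (Ext.mk₀ c).comp x (zero_add n) = (Ext.mk₀ S₁.g).comp ((Ext.mk₀ S₂.f).comp x (zero_add n)) (zero_add n)
    rw [Ext.mk₀_comp_mk₀_assoc]
    exact congrArg (fun t => (Ext.mk₀ t).comp x (zero_add n)) (Abelian.image.fac c).symm
  rw [show ⇑(pre c M n) = ⇑(pre S₁.g M n) ∘ ⇑(pre S₂.f M n) from funext hfac]
  exact h₁.comp h₂

variable {X : Scheme.{u}} (f : X ⟶ Y)

lemma isIso_pullBig_cmap_of_lift {W : Scheme.{u}} (g : W ⟶ Y) (s : W ⟶ X) (hs : s ≫ f = g) :
    IsIso ((BigSite.pullBig K₀ g AddCommGrpCat.{u + 1}).map (cmap f)) := by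
  haveI : IsIso (Functor.whiskerLeft (Over.map g).op (toConst f)) := by
    haveI : ∀ V, IsIso ((Functor.whiskerLeft (Over.map g).op (toConst f)).app V) := fun V =>
      (ConcreteCategory.isIso_iff_bijective _).2 (bijective_toConst f _
        ⟨Over.homMk (V.unop.hom ≫ s) ((Category.assoc _ _ _).trans (congrArg (V.unop.hom ≫ ·) hs))⟩)
    exact NatIso.isIso_of_isIso_app _
  exact (NatIso.isIso_map_iff (resSheafify g) (toConst f)).1
    (inferInstanceAs (IsIso ((presheafToSheaf (Jbig K₀ W) AddCommGrpCat.{u + 1}).map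
      (Functor.whiskerLeft (Over.map g).op (toConst f)))))

set_option synthInstance.maxHeartbeats 200000 in
set_option maxHeartbeats 1000000 in
/-- Descent along a map through which an etale cover of an integral surjection factors. -/
theorem bijective_pre_of_refinement {Z W : Scheme.{u}} (ν : Z ⟶ Y) [IsIntegralHom ν] [Surjective ν] (e : W ⟶ Z)
    (hcov : Sieve.generate (Presieve.singleton e) ∈ (K₀ : Precoverage Scheme.{u}).toGrothendieck Z)
    (s : W ⟶ X) (hs : s ≫ f = e ≫ ν) (F : EtCoh.Ab Y) (n : ℕ) :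
    Function.Bijective (pre (cmap f) ((piS Y).obj F) n) := by
  let L := BigSite.pullBig K₀ ν AddCommGrpCat.{u + 1} ⋙ BigSite.pullBig K₀ e AddCommGrpCat.{u + 1}
  haveI : (BigSite.pullBig K₀ ν AddCommGrpCat.{u + 1}).IsLeftAdjoint :=
    (BigSite.bigAdj K₀ ν AddCommGrpCat.{u + 1}).isLeftAdjoint
  haveI : (BigSite.pullBig K₀ e AddCommGrpCat.{u + 1}).IsLeftAdjoint :=
    (BigSite.bigAdj K₀ e AddCommGrpCat.{u + 1}).isLeftAdjoint
  haveI : (BigSite.pullBig K₀ ν AddCommGrpCat.{u + 1}).IsRightAdjoint :=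
    (BigSite.shriekAbAdj K₀ ν).isRightAdjoint
  haveI : (BigSite.pullBig K₀ e AddCommGrpCat.{u + 1}).IsRightAdjoint :=
    (BigSite.shriekAbAdj K₀ e).isRightAdjoint
  haveI : L.IsLeftAdjoint := inferInstance
  haveI : L.IsRightAdjoint := inferInstance
  haveI : IsIso (L.map (cmap f)) := by
    haveI := isIso_pullBig_cmap_of_lift f (e ≫ ν) s hs
    let i : BigSite.pullBig K₀ (e ≫ ν) AddCommGrpCat.{u + 1} ≅ L :=
      ((Over.map e).sheafPushforwardContinuousComp' (Over.mapComp e ν).symm AddCommGrpCat.{u + 1}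
        (Jbig K₀ W) (Jbig K₀ Z) (Jbig K₀ Y)).symm
    exact (NatIso.isIso_map_iff i (cmap f)).1 inferInstance
  have key : ∀ A : BigSite.Ab K₀ Y, IsZero (L.obj A) → ∀ m, Subsingleton (Ext.{u + 1} A ((piS Y).obj F) m) :=
    fun A hA m => subsingleton_ext_of_killed ν A (isZero_of_killed_cover e hcov _ hA) F m
  refine bijective_pre_of_subsingleton _ _ (key _ ?_) (key _ ?_) n
  · haveI : IsIso (L.map (Abelian.factorThruImage (cmap f))) := by
      haveI : Mono (L.map (Abelian.image.ι (cmap f))) := inferInstance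
      haveI : Epi (L.map (Abelian.factorThruImage (cmap f))) := inferInstance
      haveI : Mono (L.map (Abelian.factorThruImage (cmap f))) := by
        have w : L.map (Abelian.factorThruImage (cmap f)) ≫ L.map (Abelian.image.ι (cmap f)) = L.map (cmap f) :=
          (L.map_comp _ _).symm.trans (congrArg (fun t => L.map t) (Abelian.image.fac (cmap f)))
        exact mono_of_mono_fac w
      exact isIso_of_mono_of_epi _
    exact (isZero_kernel_of_mono _).of_iso (PreservesKernel.iso L _)
  · exact (isZero_cokernel_of_epi _).of_iso (PreservesCokernel.iso L _)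

end Groth.Agent.DescBig
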